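import Groth.Agent.H15Site.HomSect
import Groth.Agent.H15Site.LocHom
import Groth.Agent.H15Site.ModOver

/-!
# `ℋom(F, G) ⊗ H = ℋom(F, G ⊗ H)` for `F` finitely presented and `H` flat
-/

set_option autoImplicit false
set_option linter.style.haveILetI false
set_option linter.unusedSectionVars false
set_option backward.isDefEq.respectTransparency false
set_option backward.isDefEq.respectTransparency.types false

universe u v w

open CategoryTheory CategoryTheory.Limits MonoidalCategory Opposite TensorProduct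

namespace Groth.Agent.H15Site.HomTensor

open ModTensor ModRel LocGen LocFP HomSect

attribute [local instance 10000] SiteInst.hasSheafifySite SiteInst.hasWeakSheafifySite

section JointKernel

variable {A : Type w} [Category.{v} A] [Abelian A]

/-- The `e i` form a joint kernel of the family of linear relations `r k`. -/
structure JK {I K : Type u} [Fintype I] {X Y : A} (e : I → (X ⟶ Y)) (r : K → I → (Y ⟶ Y)) : Prop where
  zero : ∀ k, ∑ i, e i ≫ r k i = 0
  existsUnique : ∀ {W : A} (y : I → (W ⟶ Y)), (∀ k, ∑ i, y i ≫ r k i = 0) → ∃! z : W ⟶ X, ∀ i, z ≫ e i = y i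

theorem JK.isIso {I K : Type u} [Fintype I] {X X' Y : A} {e : I → (X ⟶ Y)} {e' : I → (X' ⟶ Y)}
    {r : K → I → (Y ⟶ Y)} (h : JK e r) (h' : JK e' r) (φ : X ⟶ X') (hφ : ∀ i, φ ≫ e' i = e i) : IsIso φ := by
  obtain ⟨ψ, hψ, -⟩ := h.existsUnique e' h'.zero
  refine ⟨ψ, ?_, ?_⟩
  · exact (h.existsUnique e h.zero).unique (fun i => by rw [Category.assoc, hψ, hφ]) fun i => Category.id_comp _
  · exact (h'.existsUnique e' h'.zero).unique (fun i => by rw [Category.assoc, hφ, hψ]) fun i => Category.id_comp _

theorem JK.transport {I K : Type u} [Fintype I] {X Y X' Y' : A} {e : I → (X ⟶ Y)} {r : K → I → (Y ⟶ Y)}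
    (h : JK e r) (a : X' ⟶ X) [IsIso a] (b : Y ⟶ Y') [IsIso b] {e' : I → (X' ⟶ Y')} {r' : K → I → (Y' ⟶ Y')}
    (he : ∀ i, e' i = a ≫ e i ≫ b) (hr : ∀ k i, r k i ≫ b = b ≫ r' k i) : JK e' r' where
  zero k := by
    calc ∑ i, e' i ≫ r' k i = ∑ i, a ≫ (e i ≫ r k i) ≫ b :=
          Finset.sum_congr rfl fun i _ => by simp only [he, Category.assoc, hr]
      _ = a ≫ (∑ i, e i ≫ r k i) ≫ b := by rw [Preadditive.sum_comp, Preadditive.comp_sum]
      _ = 0 := by rw [h.zero, zero_comp, comp_zero]
  existsUnique {W} y hy := by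
    have hy' : ∀ k, ∑ i, (y i ≫ inv b) ≫ r k i = 0 := fun k => by
      rw [← cancel_mono b, Preadditive.sum_comp, zero_comp]
      refine Eq.trans (Finset.sum_congr rfl fun i _ => ?_) (hy k)
      rw [Category.assoc, hr, Category.assoc, IsIso.inv_hom_id_assoc]
    obtain ⟨z, hz, hzu⟩ := h.existsUnique _ hy'
    refine ⟨z ≫ inv a, fun i => ?_, fun z' hz' => ?_⟩
    · show (z ≫ inv a) ≫ e' i = y i
      rw [he, Category.assoc, IsIso.inv_hom_id_assoc, ← Category.assoc, hz i, Category.assoc,
        IsIso.inv_hom_id, Category.comp_id]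
    · rw [← cancel_mono a, Category.assoc, IsIso.inv_hom_id, Category.comp_id]
      refine hzu _ fun i => ?_
      rw [← hz' i, he]
      simp

/-- Left exact additive functors preserve joint kernels. -/
theorem JK.map {B : Type*} [Category.{v} B] [Abelian B] {I K : Type u} [Fintype I] [Fintype K] [HasFiniteProducts A]
    {X Y : A} {e : I → (X ⟶ Y)} {r : K → I → (Y ⟶ Y)} (h : JK e r) (T : A ⥤ B) [T.Additive]
    [PreservesFiniteLimits T] : JK (fun i => T.map (e i)) fun k i => T.map (r k i) where
  zero k := by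
    simp only [← Functor.map_comp, ← T.map_sum, h.zero, Functor.map_zero]
  existsUnique {W} y hy := by
    let L : X ⟶ ∏ᶜ fun _ : I => Y := Pi.lift e
    let M : (∏ᶜ fun _ : I => Y) ⟶ ∏ᶜ fun _ : K => Y := Pi.lift fun k => ∑ i, Pi.π (fun _ : I => Y) i ≫ r k i
    have hLM : L ≫ M = 0 := Pi.hom_ext _ _ fun k => by
      simp only [L, M, Category.assoc, Pi.lift_π, Preadditive.comp_sum, Pi.lift_π_assoc, zero_comp, h.zero]
    have hgk : ∀ {V : A} (g : V ⟶ ∏ᶜ fun _ : I => Y), g ≫ M = 0 →
        ∀ k, ∑ i, (g ≫ Pi.π (fun _ : I => Y) i) ≫ r k i = 0 := fun {V} g hg k => by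
      have := congrArg (· ≫ Pi.π (fun _ : K => Y) k) hg
      simp only [M, Category.assoc, Pi.lift_π, Preadditive.comp_sum, zero_comp] at this
      simpa only [Category.assoc] using this
    have hk : IsLimit (KernelFork.ofι L hLM) := by
      refine KernelFork.IsLimit.ofι L hLM
        (fun {V} g hg => (h.existsUnique (fun i => g ≫ Pi.π _ i) (hgk g hg)).choose)
        (fun {V} g hg => ?_) (fun {V} g hg m hm => ?_)
      · exact Pi.hom_ext _ _ fun i => by
          rw [Category.assoc, Pi.lift_π]
          exact (h.existsUnique (fun i => g ≫ Pi.π _ i) (hgk g hg)).choose_spec.1 i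
      · exact (h.existsUnique (fun i => g ≫ Pi.π _ i) (hgk g hg)).choose_spec.2 m fun i => by
          rw [← hm, Category.assoc, Pi.lift_π]
    let hk' := KernelFork.mapIsLimit _ hk T
    let hP := isLimitOfPreserves T (productIsProduct fun _ : I => Y)
    let hQ := isLimitOfPreserves T (productIsProduct fun _ : K => Y)
    let g : W ⟶ T.obj (∏ᶜ fun _ : I => Y) := hP.lift ⟨W, Discrete.natTrans fun i => y i.as⟩
    have hg : ∀ i, g ≫ T.map (Pi.π (fun _ : I => Y) i) = y i := fun i =>
      hP.fac ⟨W, Discrete.natTrans fun i => y i.as⟩ ⟨i⟩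
    have hgM : g ≫ T.map M = 0 := hQ.hom_ext fun k => by
      obtain ⟨k⟩ := k
      show (g ≫ T.map M) ≫ T.map (Pi.π (fun _ : K => Y) k) = 0 ≫ T.map (Pi.π (fun _ : K => Y) k)
      simp only [M, Category.assoc, ← Functor.map_comp, Pi.lift_π, T.map_sum, Preadditive.comp_sum, zero_comp]
      refine Eq.trans (Finset.sum_congr rfl fun i _ => ?_) (hy k)
      rw [Functor.map_comp, ← Category.assoc, hg]
    obtain ⟨z, hz⟩ := KernelFork.IsLimit.lift' hk' g hgM
    refine ⟨z, fun i => ?_, fun z' hz' => ?_⟩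
    · rw [← hg i, ← hz]
      show z ≫ T.map (e i) = (z ≫ T.map L) ≫ T.map (Pi.π (fun _ : I => Y) i)
      rw [Category.assoc, ← Functor.map_comp, Pi.lift_π]
    · refine Fork.IsLimit.hom_ext hk' (hP.hom_ext fun i => ?_)
      obtain ⟨i⟩ := i
      show (z' ≫ T.map L) ≫ T.map (Pi.π (fun _ : I => Y) i) = (z ≫ T.map L) ≫ T.map (Pi.π (fun _ : I => Y) i)
      rw [show z ≫ T.map L = g from hz, hg, Category.assoc, ← Functor.map_comp, Pi.lift_π]
      exact hz' i

end JointKernel

variable {C : Type u} [SmallCategory C] {J : GrothendieckTopology C} {O : Sheaf J CommRingCat.{u}}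

/-- The tensor product. -/
noncomputable abbrev T (M N : ModSite.Mod O) : ModSite.Mod O := ((ModSite.tensorBi O).obj M).obj N

/-- A pure tensor in the sheaf. -/
noncomputable def η {M N : ModSite.Mod O} {X : Cᵒᵖ} (a : ((forg O).obj M).obj X) (b : ((forg O).obj N).obj X) :
    ((forg O).obj (T M N)).obj X :=
  bb ((adj O).unit.app ((forg O).obj M ⊗ (forg O).obj N)) a b

section Theta

variable (F : ModSite.Mod O) [ModSite.HasSheafHom F] (G H : ModSite.Mod O)

/-- The pairing defining the comparison map. -/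
noncomputable def pre : (ihom F G ⊗ (forg O).obj H) ⊗ (forg O).obj F ⟶ (forg O).obj (T G H) :=
  (α_ _ _ _).hom ≫ (ihom F G ◁ (β_ ((forg O).obj H) ((forg O).obj F)).hom) ≫ (α_ _ _ _).inv ≫
    (ev0 F G ▷ (forg O).obj H) ≫ (adj O).unit.app ((forg O).obj G ⊗ (forg O).obj H)

/-- Its transpose. -/
noncomputable def uu : ihom F G ⊗ (forg O).obj H ⟶ ihom F (T G H) :=
  ((bijective_curry F (ihom F G ⊗ (forg O).obj H) (T G H)).2 (pre F G H)).choose

/-- The comparison map. -/
noncomputable def θ : T ((ModSite.sheafHom F).obj G) H ⟶ (ModSite.sheafHom F).obj (T G H) :=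
  ((adj O).homEquiv _ _).symm (uu F G H)

variable {F G H}

theorem pair_θ {X : Cᵒᵖ} (x : (ihom F G).obj X) (h : ((forg O).obj H).obj X) (m : ((forg O).obj F).obj X) :
    HomSect.pair (((θ F G H).val.app X).hom (η (M := (ModSite.sheafHom F).obj G) x h)) m = η (HomSect.pair x m) h := by
  have e0 : (adj O).unit.app (ihom F G ⊗ (forg O).obj H) ≫ (forg O).map (θ F G H) = uu F G H :=
    ((adj O).homEquiv_unit (f := θ F G H)).symm.trans (Equiv.apply_symm_apply _ _)
  have e1 : ((θ F G H).val.app X).hom (η (M := (ModSite.sheafHom F).obj G) x h) =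
      ((uu F G H).app X).hom (x ⊗ₜ[O.obj.obj X] h) :=
    ConcreteCategory.congr_hom (congrArg (fun k => PresheafOfModules.Hom.app k X) e0) (x ⊗ₜ[O.obj.obj X] h)
  rw [e1]
  exact ConcreteCategory.congr_hom (congrArg (fun k => PresheafOfModules.Hom.app k X)
    ((bijective_curry F (ihom F G ⊗ (forg O).obj H) (T G H)).2 (pre F G H)).choose_spec)
      ((x ⊗ₜ[O.obj.obj X] h) ⊗ₜ[O.obj.obj X] m)

end Theta

section Restr

variable (U : C)

/-- Restriction. -/
noncomputable abbrev R : ModSite.Mod O ⥤ ModSite.Mod (O.over U) := ModSite.restr O U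

/-- Tensor with a module on the localised site. -/
noncomputable abbrev TT (H : ModSite.Mod O) : ModSite.Mod (O.over U) ⥤ ModSite.Mod (O.over U) :=
  (ModSite.tensorBi (O.over U)).flip.obj ((R U).obj H)

/-- Pure tensors on the localised site. -/
noncomputable def pk (A H : ModSite.Mod O) :
    (forg (O.over U)).obj ((R U).obj A) ⊗ (forg (O.over U)).obj ((R U).obj H) ⟶
      (forg (O.over U)).obj ((R U).obj (T A H)) :=
  (ModOver.rpTensor O U ((forg O).obj A) ((forg O).obj H)).hom ≫
    (ModOver.rp O U).map ((adj O).unit.app ((forg O).obj A ⊗ (forg O).obj H))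

/-- The comparison of the tensor product with restriction. -/
noncomputable def kk (A H : ModSite.Mod O) : (TT U H).obj ((R U).obj A) ⟶ (R U).obj (T A H) :=
  ((adj (O.over U)).homEquiv _ _).symm (pk U A H)

theorem isIso_kk (A H : ModSite.Mod O) : IsIso (kk U A H) := by
  have := ModOver.isIso_aSh_map_rp O U ((adj O).unit.app ((forg O).obj A ⊗ (forg O).obj H))
  have hc := ModOver.counit_isIso (O.over U)
  haveI : IsIso ((aSh (O.over U)).map (pk U A H)) := by
    rw [pk, Functor.map_comp]
    exact IsIso.comp_isIso' inferInstance this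
  rw [kk, Adjunction.homEquiv_counit]
  exact IsIso.comp_isIso' inferInstance (@NatIso.isIso_app_of_isIso _ _ _ _ _ _ _ hc _)

theorem pk_app (A H : ModSite.Mod O) {Z : Over U} (a : ((forg O).obj A).obj (op Z.left))
    (h : ((forg O).obj H).obj (op Z.left)) :
    ((pk U A H).app (op Z)).hom (a ⊗ₜ[O.obj.obj (op Z.left)] h) = η a h := rfl

variable {U}

/-- Maps out of a restricted tensor product agree if they agree on pure tensors. -/
theorem hom_ext_kk {A H : ModSite.Mod O} {N : ModSite.Mod (O.over U)} (φ : (TT U H).obj ((R U).obj A) ⟶ N)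
    (ψ : (R U).obj (T A H) ⟶ N)
    (h : ∀ (Z : Over U) (a : ((forg O).obj A).obj (op Z.left)) (b : ((forg O).obj H).obj (op Z.left)),
      ((((adj (O.over U)).homEquiv _ _) φ).app (op Z)).hom (a ⊗ₜ[O.obj.obj (op Z.left)] b) =
        (ψ.val.app (op Z)).hom (η a b)) : φ = kk U A H ≫ ψ := by
  refine ((adj (O.over U)).homEquiv _ _).injective ?_
  rw [kk, Adjunction.homEquiv_naturality_right, Equiv.apply_symm_apply]
  exact PresheafOfModules.hom_ext fun Z => ModuleCat.MonoidalCategory.tensor_ext fun a b => h Z.unop a b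

theorem map_kk_app {A B H : ModSite.Mod O} (φ : (R U).obj A ⟶ (R U).obj B) (Z : Over U)
    (a : ((forg O).obj A).obj (op Z.left)) (b : ((forg O).obj H).obj (op Z.left)) :
    ((((adj (O.over U)).homEquiv _ _) ((TT U H).map φ ≫ kk U B H)).app (op Z)).hom
        (a ⊗ₜ[O.obj.obj (op Z.left)] b) =
      η (M := B) ((φ.val.app (op Z)).hom a) b := by
  have e : ((adj (O.over U)).homEquiv _ _) ((TT U H).map φ ≫ kk U B H) =
      ((forg (O.over U)).map φ ▷ (forg (O.over U)).obj ((R U).obj H)) ≫ pk U B H := by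
    show ((adj (O.over U)).homEquiv _ _)
      ((aSh (O.over U)).map ((forg (O.over U)).map φ ▷ (forg (O.over U)).obj ((R U).obj H)) ≫ kk U B H) = _
    exact ((adj (O.over U)).homEquiv_naturality_left _ _).trans
      (congrArg (fun q => (forg (O.over U)).map φ ▷ (forg (O.over U)).obj ((R U).obj H) ≫ q)
        (Equiv.apply_symm_apply _ _))
  exact (ConcreteCategory.congr_hom (congrArg (fun k => PresheafOfModules.Hom.app k (op Z)) e)
    (a ⊗ₜ[O.obj.obj (op Z.left)] b)).trans (pk_app U B H ((φ.val.app (op Z)).hom a) b)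

theorem smul_comm' (A : ModSite.Mod O) {W : C} (c r : O.obj.obj (op W)) (m : ((forg O).obj A).obj (op W)) :
    c • r • m = r • c • m := smul_comm c r m

/-- Multiplication by a scalar. -/
noncomputable def smulEnd (c : O.obj.obj (op U)) (A : ModSite.Mod O) : (R U).obj A ⟶ (R U).obj A :=
  ⟨{ app := fun Z => ModuleCat.ofHom (X := ((R U).obj A).val.obj Z) (Y := ((R U).obj A).val.obj Z)
        { toFun := fun m => rr O Z.unop.hom.op c • (show ((forg O).obj A).obj (op Z.unop.left) from m)
          map_add' := fun m m' => smul_add _ _ _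
          map_smul' := fun r m => smul_comm' A (rr O Z.unop.hom.op c) r m }
     naturality := fun {Z Z'} a => by
       refine ModuleCat.hom_ext (LinearMap.ext fun m => ?_)
       show rr O Z'.unop.hom.op c • rs ((forg O).obj A) a.unop.left.op m =
         rs ((forg O).obj A) a.unop.left.op (rr O Z.unop.hom.op c • (show ((forg O).obj A).obj (op Z.unop.left) from m))
       rw [rs_smul', rr_rr, ← op_comp, Over.w] }⟩

variable {F : ModSite.Mod O} [ModSite.HasSheafHom F]

/-- Evaluation at a section. -/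
noncomputable def ε (s : ((forg O).obj F).obj (op U)) (G : ModSite.Mod O) :
    (R U).obj ((ModSite.sheafHom F).obj G) ⟶ (R U).obj G :=
  ⟨{ app := fun Z => ModuleCat.ofHom (X := ((R U).obj ((ModSite.sheafHom F).obj G)).val.obj Z)
        (Y := ((R U).obj G).val.obj Z)
        { toFun := fun x => HomSect.pair (G := G) x (rs ((forg O).obj F) Z.unop.hom.op s)
          map_add' := fun x x' => bb_add_left (ev0 F G) x x' _
          map_smul' := fun r x => bb_smul_left (ev0 F G) r x _ }
     naturality := fun {Z Z'} a => by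
       refine ModuleCat.hom_ext (LinearMap.ext fun x => ?_)
       show HomSect.pair (rs (ihom F G) a.unop.left.op x) (rs ((forg O).obj F) Z'.unop.hom.op s) =
         rs ((forg O).obj G) a.unop.left.op (HomSect.pair (G := G) x (rs ((forg O).obj F) Z.unop.hom.op s))
       rw [HomSect.pair, HomSect.pair, rs_bb, rs_rs, ← op_comp, Over.w] }⟩

section Pres

variable {I K : Type u} [Fintype I] [Fintype K] {s : I → ((forg O).obj F).obj (op U)}
  {r : K → I → O.obj.obj (op U)}

/-- Sections of the internal Hom over a presentation. -/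
theorem existsUnique_section (hs : Gen s) (hr : Rel s r) (G : ModSite.Mod O) {V : C} (g : V ⟶ U)
    (t : I → ((forg O).obj G).obj (op V)) (ht : ∀ k, ∑ i, rr O g.op (r k i) • t i = 0) :
    ∃! x : (ihom F G).obj (op V), ∀ i, HomSect.pair x (rs ((forg O).obj F) g.op (s i)) = t i := by
  have hs' := hs.restrict g
  have hr' := hr.restrict g
  have hv : ∀ (x : (ihom F G).obj (op V)) (i : I),
      ((Phi x).val.app (op (Over.mk (𝟙 V)))).hom (rs ((forg O).obj F) g.op (s i)) =
        HomSect.pair x (rs ((forg O).obj F) g.op (s i)) := fun x i => by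
    refine (Phi_app x (Over.mk (𝟙 V)) (rs ((forg O).obj F) g.op (s i))).trans ?_
    show HomSect.pair (rs (ihom F G) (𝟙 V).op x) _ = _
    rw [op_id, rs_id]
  obtain ⟨φ, hφ⟩ := exists_descMor hs' hr' (genMor t) fun k W => by
    rw [map_sum]
    simp only [genMor_e]
    have := congrArg (rs ((forg O).obj G) W.hom.op) (ht k)
    rw [rs_sum, rs_zero] at this
    simp only [rs_smul'] at this
    exact this
  obtain ⟨x, hx⟩ := (bijective_Phi G V).2 φ
  refine ⟨x, fun i => ?_, fun y hy => (bijective_Phi G V).1 (LocHom.ext_of_gen hs' fun i => ?_)⟩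
  · rw [← hv, hx]
    have h1 := congrArg (fun ψ : fr' O V I ⟶ (R V).obj G => (ψ.val.app (op (Over.mk (𝟙 V)))).hom (e i 1)) hφ
    refine Eq.trans ?_ (h1.trans ((LocHom.genMor_one t i (Over.mk (𝟙 V))).trans (rs_id _ _)))
    refine congrArg (φ.val.app (op (Over.mk (𝟙 V)))).hom ?_
    exact ((LocHom.genMor_one (fun i => rs ((forg O).obj F) g.op (s i)) i (Over.mk (𝟙 V))).trans (rs_id _ _)).symm
  · rw [hv, hv, hy i]
    have h1 := congrArg (fun ψ : fr' O V I ⟶ (R V).obj G => (ψ.val.app (op (Over.mk (𝟙 V)))).hom (e i 1)) hφ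
    rw [← hv, hx]
    refine Eq.trans (h1.trans ((LocHom.genMor_one t i (Over.mk (𝟙 V))).trans (rs_id _ _))).symm ?_
    refine congrArg (φ.val.app (op (Over.mk (𝟙 V)))).hom ?_
    exact (LocHom.genMor_one (fun i => rs ((forg O).obj F) g.op (s i)) i (Over.mk (𝟙 V))).trans (rs_id _ _)

variable (U) in
/-- Sum of morphisms, on sections. -/
theorem sum_app {M N : ModSite.Mod (O.over U)} (f : I → (M ⟶ N)) (Z : (Over U)ᵒᵖ) (m : M.val.obj Z) :
    ((∑ i, f i : M ⟶ N).val.app Z).hom m = ∑ i, ((f i).val.app Z).hom m :=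
  map_sum (AddMonoidHom.mk' (fun g : M ⟶ N => (g.val.app Z).hom m) fun _ _ => rfl) f Finset.univ

theorem jk_ε (hs : Gen s) (hr : Rel s r) (G : ModSite.Mod O) :
    JK (fun i => ε (s i) G) fun k i => smulEnd (r k i) G where
  zero k := by
    ext Z x
    refine (sum_app U _ Z x).trans ?_
    show ∑ i, rr O Z.unop.hom.op (r k i) • HomSect.pair (G := G) x (rs ((forg O).obj F) Z.unop.hom.op (s i)) = _
    have h := congrArg (rs ((forg O).obj F) Z.unop.hom.op) (hr.zero k)
    rw [rs_sum, rs_zero] at h
    simp only [rs_smul'] at h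
    refine Eq.trans ?_ ((congrArg (HomSect.pair (G := G) x) h).trans
      (map_zero (((ev0 F G).app (op Z.unop.left)).hom.comp (TensorProduct.mk (O.obj.obj (op Z.unop.left))
        ((ihom F G).obj (op Z.unop.left)) _ x))))
    show _ = (((ev0 F G).app (op Z.unop.left)).hom.comp (TensorProduct.mk (O.obj.obj (op Z.unop.left))
        ((ihom F G).obj (op Z.unop.left)) _ x)) _
    rw [map_sum]
    exact Finset.sum_congr rfl fun i _ => (bb_smul_right (ev0 F G) _ _ _).symm
  existsUnique {W} y hy := by
    have key : ∀ (Z : (Over U)ᵒᵖ) (m : W.val.obj Z), ∃! x : (ihom F G).obj (op Z.unop.left),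
        ∀ i, HomSect.pair x (rs ((forg O).obj F) Z.unop.hom.op (s i)) = ((y i).val.app Z).hom m := fun Z m =>
      existsUnique_section hs hr G Z.unop.hom _ fun k => by
        have h := congrArg (fun f : W ⟶ (R U).obj G => (f.val.app Z).hom m) (hy k)
        exact (sum_app U _ Z m).symm.trans h
    choose x hx hxu using key
    let z : W ⟶ (R U).obj ((ModSite.sheafHom F).obj G) :=
      ⟨{ app := fun Z => ModuleCat.ofHom (X := W.val.obj Z)
            (Y := ((R U).obj ((ModSite.sheafHom F).obj G)).val.obj Z)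
            { toFun := fun m => x Z m
              map_add' := fun m m' => (hxu Z _ _ fun i =>
                (bb_add_left (ev0 F G) _ _ _).trans ((congrArg₂ (· + ·) (hx Z m i) (hx Z m' i)).trans
                  (map_add _ _ _).symm)).symm
              map_smul' := fun c m => (hxu Z _ _ fun i =>
                (bb_smul_left (ev0 F G) _ _ _).trans ((congrArg (c • ·) (hx Z m i)).trans
                  (((y i).val.app Z).hom.map_smul c m).symm)).symm }
         naturality := fun {Z Z'} a => by
           refine ModuleCat.hom_ext (LinearMap.ext fun m => ?_)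
           refine (hxu Z' _ (rs (ihom F G) a.unop.left.op (x Z m)) fun i => ?_).symm
           refine Eq.trans ?_ (PresheafOfModules.naturality_apply (y i).val a m).symm
           show HomSect.pair (rs (ihom F G) a.unop.left.op (x Z m)) (rs ((forg O).obj F) Z'.unop.hom.op (s i)) =
             rs ((forg O).obj G) a.unop.left.op (((y i).val.app Z).hom m)
           rw [← hx Z m i, HomSect.pair, HomSect.pair, rs_bb, rs_rs, ← op_comp, Over.w] }⟩
    refine ⟨z, fun i => ?_, fun z' hz' => ?_⟩
    · ext Z m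
      exact hx Z m i
    · ext Z m
      refine hxu Z m _ fun i => ?_
      exact congrArg (fun f : W ⟶ (R U).obj G => (f.val.app Z).hom m) (hz' i)

theorem isIso_restr_θ (hs : Gen s) (hr : Rel s r) (G : ModSite.Mod O) {H : ModSite.Mod O}
    (hH : ModSite.IsFlat H) : IsIso ((R U).map (θ F G H)) := by
  haveI : PreservesFiniteLimits (TT U H) := (ModOver.isFlat_restr O U hH).1
  haveI : (TT U H).Additive := additive_tR ((R U).obj H)
  haveI := isIso_kk U ((ModSite.sheafHom F).obj G) H
  haveI := isIso_kk U G H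
  have h1 := (jk_ε hs hr G).map (TT U H)
  have hc : ∀ i, (TT U H).map (ε (s i) G) ≫ kk U G H =
      kk U ((ModSite.sheafHom F).obj G) H ≫ (R U).map (θ F G H) ≫ ε (s i) (T G H) := fun i =>
    hom_ext_kk _ _ fun Z a b => by
      rw [map_kk_app]
      exact (pair_θ a b (rs ((forg O).obj F) Z.hom.op (s i))).symm
  have hr' : ∀ k i, (TT U H).map (smulEnd (r k i) G) ≫ kk U G H = kk U G H ≫ smulEnd (r k i) (T G H) := fun k i =>
    hom_ext_kk _ _ fun Z a b => by
      rw [map_kk_app]
      exact bb_smul_left _ _ a b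
  have h2 : JK (fun i => (R U).map (θ F G H) ≫ ε (s i) (T G H)) fun k i => smulEnd (r k i) (T G H) :=
    h1.transport (inv (kk U ((ModSite.sheafHom F).obj G) H)) (kk U G H)
      (fun i => by rw [hc, IsIso.inv_hom_id_assoc]) hr'
  exact h2.isIso (jk_ε hs hr (T G H)) _ fun i => rfl

end Pres

end Restr

/-- The comparison map is an isomorphism. -/
theorem isIso_θ (F G : ModSite.Mod O) {H : ModSite.Mod O} [ModSite.HasSheafHom F]
    [SheafOfModules.IsFinitePresentation (R := ModSite.ringSh O) F] (hH : ModSite.IsFlat H) :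
    IsIso (θ F G H) := by
  obtain ⟨ι, X, hX, hP⟩ := exists_pres (O := O) F
  have hb : ∀ {W : C} {i : ι}, (W ⟶ X i) → Function.Bijective ((θ F G H).val.app (op W)).hom := by
    intro W i a
    obtain ⟨I, K, hI, hK, s, r, hs, hr⟩ := hP i
    haveI := isIso_restr_θ hs hr G hH
    haveI : IsIso ((SheafOfModules.forget _ ⋙ PresheafOfModules.evaluation _ (op (Over.mk a))).map
        ((R (X i)).map (θ F G H))) := inferInstance
    exact (ConcreteCategory.isIso_iff_bijective _).1 this
  haveI : Mono (θ F G H) := by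
    haveI := (SheafOfModules.fullyFaithfulForget (ModSite.ringSh O)).faithful
    refine (forg O).mono_of_mono_map (f := θ F G H) (PresheafOfModules.mono_of_injective fun Y x y h => ?_)
    refine separated_forg _ _ (hX Y.unop) _ _ fun W g hg => ?_
    obtain ⟨i, ⟨a⟩⟩ := (Sieve.mem_ofObjects_iff ..).1 hg
    apply (hb a).1
    refine (rs_app ((forg O).map (θ F G H)) g.op x).trans ?_
    exact (congrArg (rs _ g.op) h).trans (rs_app ((forg O).map (θ F G H)) g.op y).symm
  haveI : Epi (θ F G H) := (epi_iff_locSurj _).2 fun V t => ⟨_, hX V, fun W g hg => by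
    obtain ⟨i, ⟨a⟩⟩ := (Sieve.mem_ofObjects_iff ..).1 hg
    exact (hb a).2 _⟩
  exact isIso_of_mono_of_epi _

end Groth.Agent.H15Site.HomTensor
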